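import Groth.Agent.L28.Spz.Global
import Groth.Prelude.Def_EtGm
import Mathlib.RingTheory.RootsOfUnity.AlgebraicallyClosed
import Mathlib.RingTheory.Henselian
import Mathlib.RingTheory.Polynomial.Cyclotomic.Basic

/-!
A primitive root of unity with unit differences trivialises the sheaf of roots of unity.
-/

set_option autoImplicit false
set_option linter.style.haveILetI false

universe u

open CategoryTheory CategoryTheory.Limits AlgebraicGeometry Opposite

set_option backward.isDefEq.respectTransparency.types false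

namespace Groth.L28.Misc

variable {X : Scheme.{u}} {n : ℕ}

/-- a unit as a section of `G_m` -/
noncomputable def toG (U : X.Etale) (u : (Γ(U.left, ⊤))ˣ) : (EtCoh.Gm X).obj.obj (op U) :=
  ULift.up (Additive.ofMul u)

/-- a section of `G_m` as a unit -/
noncomputable def ofG (U : X.Etale) (s : (EtCoh.Gm X).obj.obj (op U)) : (Γ(U.left, ⊤))ˣ :=
  Additive.toMul (ULift.down s)

/-- pullback of units -/
noncomputable abbrev pullU {S T : Scheme.{u}} (f : S ⟶ T) : (Γ(T, ⊤))ˣ →* (Γ(S, ⊤))ˣ :=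
  Units.map f.appTop.hom.toMonoidHom

/-- evaluation of sections in the residue field -/
noncomputable def evalAt {T : Scheme.{u}} (v : T) : Γ(T, ⊤) →+* T.residueField v :=
  (IsLocalRing.residue (T.presheaf.stalk v)).comp (T.presheaf.germ ⊤ v trivial).hom

theorem mem_basicOpen_of_evalAt {T : Scheme.{u}} {v : T} {f : Γ(T, ⊤)} (h : evalAt v f ≠ 0) :
    v ∈ T.basicOpen f :=
  (T.mem_basicOpen_top f v).2 (IsLocalRing.residue_ne_zero_iff_isUnit _ |>.1 h)

theorem isUnit_of_range_subset {S T : Scheme.{u}} (r : S ⟶ T) {f : Γ(T, ⊤)}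
    (h : Set.range r ⊆ T.basicOpen f) : IsUnit (r.appTop f) := by
  refine RingedSpace.isUnit_of_isUnit_germ S.toLocallyRingedSpace.toRingedSpace ⊤ _ fun s _ => ?_
  refine (S.mem_basicOpen_top _ s).1 ?_
  rw [← Scheme.preimage_basicOpen_top]
  exact h ⟨s, rfl⟩

/-- roots of unity sections are locally powers of a primitive root -/
theorem exists_pow_nbhd {T : Scheme.{u}} (hn : IsUnit (n : Γ(T, ⊤))) (hn0 : 1 ≤ n) (z : (Γ(T, ⊤))ˣ)
    (hz : z ^ n = 1) (hd : ∀ i, 0 < i → i < n → IsUnit ((z : Γ(T, ⊤)) ^ i - 1)) (w : (Γ(T, ⊤))ˣ) (hw : w ^ n = 1)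
    (v : T) : ∃ (i : ℕ) (O : T.Opens), v ∈ O ∧
      ∀ (S : Scheme.{u}) (r : S ⟶ T), Set.range r ⊆ O → pullU r w = pullU r z ^ i := by
  haveI : NeZero n := ⟨by omega⟩
  let φ := evalAt v
  have hp : IsPrimitiveRoot (φ z) n := by
    refine IsPrimitiveRoot.mk_of_lt _ hn0 ?_ fun i hi hin h => ?_
    · rw [← map_pow, ← Units.val_pow_eq_pow_val, hz, Units.val_one, map_one]
    · refine ((hd i hi hin).map φ).ne_zero ?_
      rw [map_sub, map_pow, h, map_one, sub_self]
  obtain ⟨i, -, hi⟩ := hp.eq_pow_of_pow_eq_one (ξ := φ w)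
    (by rw [← map_pow, ← Units.val_pow_eq_pow_val, hw, Units.val_one, map_one])
  let q : (Γ(T, ⊤))ˣ := w * (z ^ i)⁻¹
  have hq : q ^ n = 1 := by
    show (w * (z ^ i)⁻¹) ^ n = 1
    rw [mul_pow, hw, one_mul, inv_pow, ← pow_mul, mul_comm, pow_mul, hz, one_pow, inv_one]
  have hqv : φ q = 1 := by
    have e : φ w = φ ((z ^ i : (Γ(T, ⊤))ˣ) : Γ(T, ⊤)) := by rw [Units.val_pow_eq_pow_val, map_pow, hi]
    show φ ((w * (z ^ i)⁻¹ : (Γ(T, ⊤))ˣ) : Γ(T, ⊤)) = 1
    rw [Units.val_mul, map_mul, e, ← map_mul, Units.mul_inv, map_one]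
  let G : Γ(T, ⊤) := ∑ j ∈ Finset.range n, (q : Γ(T, ⊤)) ^ j
  have hG : φ G ≠ 0 := by
    have : φ G = n := by simp [G, hqv]
    rw [this, ← map_natCast φ]
    exact (hn.map φ).ne_zero
  refine ⟨i, T.basicOpen G, mem_basicOpen_of_evalAt hG, fun S r hr => ?_⟩
  have h0 : ((q : Γ(T, ⊤)) - 1) * G = 0 := by
    rw [mul_geom_sum, ← Units.val_pow_eq_pow_val, hq, Units.val_one, sub_self]
  have h1 : r.appTop (q : Γ(T, ⊤)) = 1 := by
    have := congrArg r.appTop h0
    rw [map_mul, map_zero] at this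
    exact sub_eq_zero.1 (by
      rw [← map_one r.appTop.hom, ← map_sub]
      exact (isUnit_of_range_subset r hr).mul_left_eq_zero.1 this)
  have h2 : pullU r q = 1 := Units.ext h1
  rw [map_mul, map_inv, mul_inv_eq_one, map_pow] at h2
  exact h2

theorem ev_nsmul {F G : EtCoh.Ab X} (β : F ⟶ G) (k : ℕ) (U : X.Etale) (s : F.obj.obj (op U)) :
    (k • β).hom.app (op U) s = k • β.hom.app (op U) s :=
  map_nsmul ({ toFun := fun m => m.hom.app (op U) s, map_zero' := rfl, map_add' := fun _ _ => rfl } :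
    (F ⟶ G) →+ G.obj.obj (op U)) k β

theorem nsmul_muι {V : X.Etale} (s : (EtCoh.mu X n).obj.obj (op V)) :
    n • (EtCoh.muι X n).hom.app (op V) s = 0 := by
  have h := congrArg (fun m => m.hom.app (op V) s) (kernel.condition (EtCoh.powMap X n))
  have e : EtCoh.muι X n ≫ EtCoh.powMap X n = n • EtCoh.muι X n :=
    (Preadditive.comp_nsmul _ _ _).trans (congrArg (n • ·) (Category.comp_id _))
  exact (ev_nsmul _ _ _ _).symm.trans ((congrArg (fun m => m.hom.app (op V) s) e).symm.trans h)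

theorem exists_restr_pow (hn : IsUnit (n : Γ(X, ⊤))) (hn0 : 1 ≤ n) (z : (Γ(X, ⊤))ˣ) (hz : z ^ n = 1)
    (hd : ∀ i, 0 < i → i < n → IsUnit ((z : Γ(X, ⊤)) ^ i - 1)) (V : X.Etale)
    (sG : (EtCoh.Gm X).obj.obj (op V)) (hs : n • sG = 0) {Ω : Type u} [Field Ω] [IsSepClosed Ω]
    {ξ : Spec (CommRingCat.of Ω) ⟶ X} (y : (Scheme.pointSmallEtale ξ).fiber.obj V)
    (tp : (Scheme.pointSmallEtale ξ).fiber.obj (EtCoh.top X)) :
    ∃ (i : ℕ) (V₂ : X.Etale) (ρ : V₂ ⟶ V) (y₂ : (Scheme.pointSmallEtale ξ).fiber.obj V₂) (g₂ : V₂ ⟶ EtCoh.top X),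
      (Scheme.pointSmallEtale ξ).fiber.map ρ y₂ = y ∧ (Scheme.pointSmallEtale ξ).fiber.map g₂ y₂ = tp ∧
        toG V₂ (pullU g₂.left z ^ i) = (EtCoh.Gm X).obj.map ρ.op sG := by
  let h : V.left ⟶ X := V.hom
  haveI : AlgebraicGeometry.Etale h := V.prop
  have hn' : IsUnit (n : Γ(V.left, ⊤)) := by simpa using hn.map h.appTop.hom
  let η : Spec (CommRingCat.of Ω) ⟶ V.left := y.left
  obtain ⟨i, O, hv, hO⟩ := exists_pow_nbhd hn' hn0 (pullU h z) (by rw [← map_pow, hz, map_one])
    (fun i hi hin => by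
      have := (hd i hi hin).map h.appTop.hom
      simpa [map_sub, map_pow] using this)
    (ofG V sG) (congrArg (ofG V) hs) (η default)
  obtain ⟨V₂, r, hr, hoi, hrange⟩ := Spz.exists_sub_etale h O
  let ρ : V₂ ⟶ V := MorphismProperty.Over.homMk r hr
  have hr' : Set.range η ⊆ Set.range r := by
    rintro _ ⟨p, rfl⟩
    rw [hrange, Subsingleton.elim (α := Spec (CommRingCat.of Ω)) p default]
    exact hv
  haveI := hoi
  let l := @IsOpenImmersion.lift _ _ _ r η hoi hr'
  have hl : l ≫ r = η := IsOpenImmersion.lift_fac _ _ _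
  let g₂ : V₂ ⟶ EtCoh.top X := MorphismProperty.Over.homMk V₂.hom (Category.comp_id _)
  refine ⟨i, V₂, ρ, Over.homMk l ((congrArg (l ≫ ·) hr.symm).trans ((Category.assoc _ _ _).symm.trans
    ((congrArg (· ≫ h) hl).trans (Over.w y)))), g₂, Over.OverMorphism.ext hl, ?_, ?_⟩
  · apply Over.OverMorphism.ext
    show l ≫ V₂.hom = tp.left
    exact ((congrArg (l ≫ ·) hr.symm).trans ((Category.assoc _ _ _).symm.trans
      ((congrArg (· ≫ h) hl).trans (Over.w y)))).trans ((Category.comp_id _).symm.trans (Over.w tp)).symm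
  · show toG V₂ _ = toG V₂ (pullU r (ofG V sG))
    refine congrArg (toG V₂) ?_
    rw [hO V₂.left r (hrange.le)]
    refine congrArg (fun u : (Γ(V₂.left, ⊤))ˣ => u ^ i) (Units.ext ?_)
    show V₂.hom.appTop (z : Γ(X, ⊤)) = r.appTop (h.appTop (z : Γ(X, ⊤)))
    rw [← hr, Scheme.Hom.comp_appTop]
    rfl

theorem nonempty_mu_iso_const (hn : IsUnit (n : Γ(X, ⊤))) (hn0 : 1 ≤ n) (z : (Γ(X, ⊤))ˣ) (hz : z ^ n = 1)
    (hd : ∀ i, 0 < i → i < n → IsUnit ((z : Γ(X, ⊤)) ^ i - 1)) :
    Nonempty (EtCoh.mu X n ≅ EtCoh.const X (ZMod n)) := by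
  haveI : NeZero n := ⟨by omega⟩
  let top := EtCoh.top X
  let g : (EtCoh.Gm X).obj.obj (op top) := toG top z
  have hg : n • g = 0 := congrArg (fun u => toG top u) hz
  let t₀ : ZMod n →+ (EtCoh.Gm X).obj.obj (op top) :=
    ZMod.lift n ⟨zmultiplesHom _ g, by rw [zmultiplesHom_apply, natCast_zsmul, hg]⟩
  let M := AddCommGrpCat.of (ULift.{u + 1} (ZMod n))
  let t : M ⟶ (EtCoh.Gm X).obj.obj (op top) := AddCommGrpCat.ofHom (t₀.comp AddEquiv.ulift.toAddMonoidHom)
  let β := ((EtCore.constAdj X).homEquiv M (EtCoh.Gm X)).symm t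
  have hβ : ∀ m : M, β.hom.app (op top) ((EtCore.constAdj X).unit.app M m) = t m := fun m =>
    ConcreteCategory.congr_hom (((EtCore.constAdj X).homEquiv_unit (X := M) (Y := EtCoh.Gm X) (f := β)).symm.trans
      (Equiv.apply_symm_apply _ t)) m
  have h0 : β ≫ EtCoh.powMap X n = 0 := by
    rw [EtCoh.powMap, Preadditive.comp_nsmul, Category.comp_id]
    refine ((EtCore.constAdj X).homEquiv M (EtCoh.Gm X)).injective ?_
    rw [(EtCore.constAdj X).homEquiv_unit, (EtCore.constAdj X).homEquiv_unit]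
    refine ConcreteCategory.hom_ext _ _ fun m => ?_
    show (n • β).hom.app (op top) ((EtCore.constAdj X).unit.app M m) = (0 : (EtCoh.Gm X).obj.obj (op top))
    rw [ev_nsmul, hβ]
    refine (map_nsmul t.hom n m).symm.trans ((congrArg t.hom ?_).trans (map_zero t.hom))
    exact ULift.ext _ _ (ZModModule.char_nsmul_eq_zero n _)
  let α : EtCoh.const X (ZMod n) ⟶ EtCoh.mu X n := kernel.lift _ β h0
  have hαι : α ≫ EtCoh.muι X n = β := kernel.lift_ι _ _ _
  suffices IsIso α from ⟨(asIso α).symm⟩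
  haveI : Mono (EtCoh.muι X n) := inferInstanceAs (Mono (kernel.ι _))
  have main : ∀ (Ω : Type u) [Field Ω] [IsSepClosed Ω] (ξ : Spec (CommRingCat.of Ω) ⟶ X),
      Function.Bijective ((EtCoh.stalk ξ).map α) := by
    intro Ω _ _ ξ
    let Φ := Scheme.pointSmallEtale ξ
    let tp : Φ.fiber.obj top := Over.homMk ξ (Category.comp_id _)
    have hcb := Spz.bijective_constGerm (M := ZMod n) ξ tp
    have hm : Function.Injective ((EtCoh.stalk ξ).map (EtCoh.muι X n)) :=
      (Groth.L27.EtSite.mono_iff_stalks _).1 inferInstance Ω ξ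
    have key : ∀ m : M, (EtCoh.stalk ξ).map (EtCoh.muι X n) ((EtCoh.stalk ξ).map α
        (Φ.toPresheafFiber top tp (EtCoh.const X (ZMod n)).obj ((EtCore.constAdj X).unit.app M m))) =
        Φ.toPresheafFiber top tp (EtCoh.Gm X).obj (t m) := by
      intro m
      refine (ConcreteCategory.comp_apply _ _ _).symm.trans ?_
      rw [← Functor.map_comp, hαι]
      exact (GrothendieckTopology.Point.toPresheafFiber_naturality_apply Φ β.hom top tp _).trans
        (congrArg (fun r => Φ.toPresheafFiber top tp (EtCoh.Gm X).obj r) (hβ m))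
    have hpow : ∀ (V : X.Etale) (g' : V ⟶ top) (i : ℕ), (EtCoh.Gm X).obj.map g'.op (t ⟨(i : ZMod n)⟩) =
        toG V (pullU g'.left z ^ i) := by
      intro V g' i
      have e : t ⟨(i : ZMod n)⟩ = i • g := by
        show t₀ (i : ZMod n) = i • g
        rw [show ((i : ZMod n)) = ((i : ℤ) : ZMod n) from (Int.cast_natCast i).symm]
        exact (ZMod.lift_coe n _ _).trans (natCast_zsmul g i)
      rw [e, map_nsmul]
      rfl
    refine (Function.Bijective.of_comp_iff _ hcb).1 ⟨fun a b e => ?_, fun x => ?_⟩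
    · have e' := congrArg ((EtCoh.stalk ξ).map (EtCoh.muι X n)) e
      have e2 := ((key _).symm.trans e').trans (key _)
      obtain ⟨V, g', y, -, he⟩ := (Φ.toPresheafFiber_eq_iff' (P := (EtCoh.Gm X).obj) top tp _ _).1 e2
      obtain ⟨a⟩ := a
      obtain ⟨b⟩ := b
      rw [← ZMod.natCast_zmod_val a, ← ZMod.natCast_zmod_val b, hpow, hpow] at he
      have he' : pullU g'.left z ^ a.val = pullU g'.left z ^ b.val := congrArg (ofG V) he
      let v : V.left := (show Spec (CommRingCat.of Ω) ⟶ V.left from y.left) default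
      let φ : Γ(X, ⊤) →+* V.left.residueField v := (evalAt v).comp g'.left.appTop.hom
      have hp : IsPrimitiveRoot (φ z) n := by
        refine IsPrimitiveRoot.mk_of_lt _ hn0 ?_ fun i hi hin h => ?_
        · rw [← map_pow, ← Units.val_pow_eq_pow_val, hz, Units.val_one, map_one]
        · refine ((hd i hi hin).map φ).ne_zero ?_
          rw [map_sub, map_pow, h, map_one, sub_self]
      have h2 : φ z ^ a.val = φ z ^ b.val :=
        (map_pow (evalAt v) _ _).symm.trans ((congrArg (evalAt v) (((Units.val_pow_eq_pow_val _ _).symm.trans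
          (congrArg Units.val he')).trans (Units.val_pow_eq_pow_val _ _))).trans (map_pow (evalAt v) _ _))
      exact congrArg ULift.up (ZMod.val_injective n (hp.pow_inj a.val_lt b.val_lt h2))
    · obtain ⟨V, y, s, rfl⟩ := Φ.toPresheafFiber_jointly_surjective (P := (EtCoh.mu X n).obj) x
      obtain ⟨i, V₂, ρ, y₂, g₂, hy, htp, he⟩ := exists_restr_pow hn hn0 z hz hd V ((EtCoh.muι X n).hom.app (op V) s)
        (nsmul_muι s) y tp
      refine ⟨⟨(i : ZMod n)⟩, hm ?_⟩
      refine (key _).trans ?_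
      refine ((congrArg (fun q => Φ.toPresheafFiber top q (EtCoh.Gm X).obj (t ⟨(i : ZMod n)⟩)) htp).symm.trans
        (GrothendieckTopology.Point.toPresheafFiber_w_apply Φ g₂ y₂ (EtCoh.Gm X).obj _).symm).trans ?_
      refine Eq.trans ?_ (GrothendieckTopology.Point.toPresheafFiber_naturality_apply Φ (EtCoh.muι X n).hom V y s).symm
      refine Eq.trans ?_ ((GrothendieckTopology.Point.toPresheafFiber_w_apply Φ ρ y₂ (EtCoh.Gm X).obj _).trans
        (congrArg (fun q => Φ.toPresheafFiber V q (EtCoh.Gm X).obj ((EtCoh.muι X n).hom.app (op V) s)) hy))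
      refine congrArg (fun w => Φ.toPresheafFiber V₂ y₂ (EtCoh.Gm X).obj w) ?_
      rw [hpow]
      exact he
  haveI : Mono α := (Groth.L27.EtSite.mono_iff_stalks α).2 fun Ω _ _ ξ => (main Ω ξ).1
  haveI : Epi α := (Groth.L27.EtSite.epi_iff_stalks α).2 fun Ω _ _ ξ => (main Ω ξ).2
  exact isIso_of_mono_of_epi α

/-- strictly henselian local rings contain a good root of unity -/
theorem exists_root {A : Type u} [CommRing A] (hA : EtCoh.IsStrictlyHenselianLocalRing A) (hn : 1 ≤ n)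
    (hu : IsUnit (n : A)) : ∃ z : Aˣ, z ^ n = 1 ∧ ∀ i, 0 < i → i < n → IsUnit ((z : A) ^ i - 1) := by
  obtain ⟨hh, hs⟩ := hA
  haveI := hh
  haveI := hs
  haveI : NeZero n := ⟨by omega⟩
  let K := IsLocalRing.ResidueField A
  have hn' : (n : K) ≠ 0 := by
    rw [← map_natCast (IsLocalRing.residue A)]
    exact (hu.map _).ne_zero
  haveI : NeZero (n : K) := ⟨hn'⟩
  obtain ⟨r, hr⟩ := HasEnoughRootsOfUnity.exists_primitiveRoot K n
  obtain ⟨a₀, rfl⟩ := IsLocalRing.residue_surjective r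
  have hm : (Polynomial.X ^ n - 1 : Polynomial A).Monic := by
    rw [← Polynomial.C_1]
    exact Polynomial.monic_X_pow_sub_C (1 : A) (by omega)
  obtain ⟨a, ha, haa⟩ := HenselianLocalRing.is_henselian (Polynomial.X ^ n - 1 : Polynomial A) hm a₀
    (by rw [← IsLocalRing.residue_eq_zero_iff]; simp [hr.pow_eq_one])
    (by
      rw [← IsLocalRing.residue_ne_zero_iff_isUnit]
      simp only [Polynomial.derivative_sub, Polynomial.derivative_X_pow, Polynomial.derivative_one, sub_zero,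
        Polynomial.eval_mul, Polynomial.eval_natCast, Polynomial.eval_pow, Polynomial.eval_X, map_mul, map_natCast, map_pow]
      exact mul_ne_zero hn' (pow_ne_zero _ (hr.ne_zero (by omega))))
  have ha' : a ^ n = 1 := by simpa [Polynomial.IsRoot, sub_eq_zero] using ha
  have hau : IsUnit a := IsUnit.of_pow_eq_one ha' (by omega)
  refine ⟨hau.unit, Units.ext (by simpa using ha'), fun i hi hin => ?_⟩
  rw [← IsLocalRing.residue_ne_zero_iff_isUnit, hau.unit_spec, map_sub, map_pow, map_one, sub_ne_zero]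
  rw [show IsLocalRing.residue A a = IsLocalRing.residue A a₀ from
    sub_eq_zero.1 (by rw [← map_sub, IsLocalRing.residue_eq_zero_iff]; exact haa)]
  exact hr.pow_ne_one_of_pos_of_lt (by omega) hin

theorem nonempty_mu_iso_const_of_strictly_henselian {A : Type u} [CommRing A]
    (hA : EtCoh.IsStrictlyHenselianLocalRing A) (hn : 1 ≤ n) (hu : IsUnit (n : A)) (f : X ⟶ Spec (CommRingCat.of A)) :
    Nonempty (EtCoh.mu X n ≅ EtCoh.const X (ZMod n)) := by
  obtain ⟨z, hz, hd⟩ := exists_root hA hn hu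
  let φ : A →+* Γ(X, ⊤) := ((Scheme.ΓSpecIso (CommRingCat.of A)).inv ≫ f.appTop).hom
  refine nonempty_mu_iso_const (by simpa using hu.map φ) hn (Units.map φ.toMonoidHom z) (by rw [← map_pow, hz, map_one])
    fun i hi hin => ?_
  simpa [map_sub, map_pow] using (hd i hi hin).map φ

end Groth.L28.Misc
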