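import Groth.Agent.L28.Spz.Card

/-!
A finite locally constant sheaf on a connected scheme has one value group.
-/

set_option autoImplicit false
set_option linter.style.haveILetI false

universe u

open CategoryTheory CategoryTheory.Limits AlgebraicGeometry Opposite

set_option backward.isDefEq.respectTransparency.types false

namespace Groth.L28.Misc

theorem exists_single_group {X : Scheme.{u}} [ConnectedSpace X] (F : EtCoh.Ab X) (h : EtCoh.IsFiniteLocallyConstant F) :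
    ∃ (M : Type) (_ : AddCommGroup M) (_ : Finite M) (ι : Type u) (U : ι → X.Etale), EtCoh.Covers U ∧
      ∀ i, Nonempty (EtCoh.restr F (U i) ≅
        (constantSheaf (X.smallEtaleTopology.over (U i)) AddCommGrpCat.{u + 1}).obj
          (AddCommGrpCat.of (ULift.{u + 1} M))) := by
  obtain ⟨ι, U, hU, h⟩ := h
  choose M instM hfin e using h
  obtain ⟨x₀⟩ := (inferInstance : Nonempty X)
  obtain ⟨i₀, z₀, hz₀⟩ := hU x₀
  let P : ι → Prop := fun i =>
    Nonempty (AddCommGrpCat.of (ULift.{u + 1} (M i)) ≅ AddCommGrpCat.of (ULift.{u + 1} (M i₀)))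
  have meet : ∀ i j x, x ∈ Set.range (U i).hom → x ∈ Set.range (U j).hom → P j → P i := by
    rintro i j x ⟨z, hz⟩ ⟨w, hw⟩ ⟨c⟩
    obtain ⟨Ω, _, _, ξ, hξ⟩ := Groth.L27.EtSite.exists_geometric_point x
    obtain ⟨y, -⟩ := Groth.L27.EtSite.exists_fiber ξ (U i) z (hz.trans hξ.symm)
    obtain ⟨y', -⟩ := Groth.L27.EtSite.exists_fiber ξ (U j) w (hw.trans hξ.symm)
    obtain ⟨a⟩ := Locus.stalk_trivialised (e i).some ξ y
    obtain ⟨b⟩ := Locus.stalk_trivialised (e j).some ξ y'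
    exact ⟨a.symm ≪≫ b ≪≫ c⟩
  let A : Set X := {x | ∃ i, P i ∧ x ∈ Set.range (U i).hom}
  have hopen : ∀ i, IsOpen (Set.range (U i).hom) := fun i => by
    haveI : AlgebraicGeometry.Etale (U i).hom := (U i).prop
    exact (U i).hom.isOpenMap.isOpen_range
  have hA : IsClopen A := by
    refine ⟨isOpen_compl_iff.1 (isOpen_iff_forall_mem_open.2 fun x hx => ?_),
      isOpen_iff_forall_mem_open.2 fun x ⟨i, hi, hxi⟩ => ⟨_, fun y hy => ⟨i, hi, hy⟩, hopen i, hxi⟩⟩
    obtain ⟨i, z, hz⟩ := hU x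
    exact ⟨_, fun y hy ⟨j, hj, hyj⟩ => hx ⟨i, meet i j y hy hyj hj, z, hz⟩, hopen i, z, hz⟩
  have huniv : A = Set.univ := hA.eq_univ ⟨x₀, i₀, ⟨Iso.refl _⟩, z₀, hz₀⟩
  refine ⟨M i₀, instM i₀, hfin i₀, {i // P i}, fun i => U i.1, fun x => ?_, fun i => ?_⟩
  · obtain ⟨i, hi, z, hz⟩ := (huniv.symm ▸ Set.mem_univ x : x ∈ A)
    exact ⟨⟨i, hi⟩, z, hz⟩
  · exact ⟨(e i.1).some ≪≫ Functor.mapIso _ i.2.some⟩

end Groth.L28.Misc
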