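import Mathlib.AlgebraicGeometry.Morphisms.FormallyUnramified
import Mathlib.AlgebraicGeometry.Morphisms.Separated
import Mathlib.AlgebraicGeometry.Morphisms.FiniteType
import Mathlib.AlgebraicGeometry.Noetherian
import Mathlib.AlgebraicGeometry.Morphisms.ClosedImmersion
import Mathlib.Topology.NoetherianSpace

/-!
A Noetherian scheme has finitely many morphisms into a separated unramified scheme over a base.
-/

set_option autoImplicit false

universe u

open CategoryTheory CategoryTheory.Limits AlgebraicGeometry TopologicalSpace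

namespace Groth.L28.Misc

theorem finite_setOf_isClopen {T : Type u} [TopologicalSpace T] [NoetherianSpace T] :
    {s : Set T | IsClopen s}.Finite := by
  haveI := (NoetherianSpace.finite_irreducibleComponents (α := T)).to_subtype
  refine Set.Finite.of_finite_image (f := fun s => {Z : irreducibleComponents T | (Z : Set T) ⊆ s})
    (Set.toFinite _) fun s hs t ht h => ?_
  have key : ∀ {s : Set T}, IsClopen s → ∀ x, x ∈ s ↔ irreducibleComponent x ⊆ s := fun {s} hs x =>
    ⟨fun hx => isIrreducible_irreducibleComponent.2.isPreconnected.subset_isClopen hs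
      ⟨x, mem_irreducibleComponent, hx⟩, fun h => h mem_irreducibleComponent⟩
  ext x
  rw [key hs, key ht]
  exact Set.ext_iff.1 h ⟨_, irreducibleComponent_mem_irreducibleComponents x⟩

theorem finite_sections {P Y : Scheme.{u}} [AlgebraicGeometry.IsNoetherian Y] (p : P ⟶ Y) [FormallyUnramified p]
    [LocallyOfFiniteType p] [QuasiCompact p] [IsSeparated p] : Finite {s : Y ⟶ P // s ≫ p = 𝟙 Y} := by
  haveI : IsLocallyNoetherian P := LocallyOfFiniteType.isLocallyNoetherian p
  haveI : CompactSpace P := QuasiCompact.compactSpace_of_compactSpace p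
  haveI : AlgebraicGeometry.IsNoetherian P := {}
  haveI : MorphismProperty.IsStableUnderBaseChange (@LocallyOfFiniteType ⊓ @FormallyUnramified : MorphismProperty Scheme.{u}) :=
    @MorphismProperty.IsStableUnderBaseChange.inf _ _ _ _ inferInstance inferInstance
  have hW : MorphismProperty.HasOfPostcompProperty @IsOpenImmersion
      (@LocallyOfFiniteType ⊓ @FormallyUnramified : MorphismProperty Scheme.{u}) := by
    rw [MorphismProperty.hasOfPostcompProperty_iff_le_diagonal]
    intro X Y f ⟨hft, hfu⟩
    exact inferInstanceAs <| IsOpenImmersion (pullback.diagonal f)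
  have ho : ∀ s : {s : Y ⟶ P // s ≫ p = 𝟙 Y}, IsOpenImmersion s.1 := fun s =>
    MorphismProperty.of_postcomp _ (W' := (@LocallyOfFiniteType ⊓ @FormallyUnramified : MorphismProperty Scheme.{u}))
      s.1 p ⟨inferInstance, inferInstance⟩ (by rw [s.2]; infer_instance)
  have hc : ∀ s : {s : Y ⟶ P // s ≫ p = 𝟙 Y}, IsClosedImmersion s.1 := fun s => by
    haveI : IsClosedImmersion (s.1 ≫ p) := by rw [s.2]; infer_instance
    exact IsClosedImmersion.of_comp s.1 p
  haveI := (finite_setOf_isClopen (T := P)).to_subtype
  refine Finite.of_injective (fun s => (⟨Set.range s.1, (hc s).isClosedEmbedding.isClosed_range,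
    (ho s).base_open.isOpen_range⟩ : {s : Set P | IsClopen s})) fun s t h => ?_
  haveI := ho s
  haveI := ho t
  have hr : Set.range s.1 = Set.range t.1 := congrArg Subtype.val h
  let e := IsOpenImmersion.isoOfRangeEq s.1 t.1 hr
  have he : e.hom ≫ t.1 = s.1 := IsOpenImmersion.isoOfRangeEq_hom_fac _ _ _
  have : e.hom = 𝟙 Y := by
    have h' := congrArg (· ≫ p) he
    simp only [Category.assoc, t.2, s.2, Category.comp_id] at h'
    exact h'
  rw [this, Category.id_comp] at he
  exact Subtype.ext he.symm

theorem finite_homs {X S Y : Scheme.{u}} [AlgebraicGeometry.IsNoetherian Y]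
    (π : X ⟶ S) [FormallyUnramified π] [LocallyOfFiniteType π] [QuasiCompact π] [IsSeparated π]
    (h : Y ⟶ S) : Set.Finite {f : Y ⟶ X | f ≫ π = h} := by
  haveI : FormallyUnramified (pullback.snd π h) := MorphismProperty.of_isPullback (P := @FormallyUnramified) (IsPullback.of_hasPullback π h) ‹FormallyUnramified π›
  haveI := finite_sections (pullback.snd π h)
  refine Set.finite_coe_iff.1 (Finite.of_injective
    (fun f : {f : Y ⟶ X | f ≫ π = h} => (⟨pullback.lift f.1 (𝟙 Y) (by rw [Category.id_comp]; exact f.2),
      pullback.lift_snd _ _ _⟩ : {s : Y ⟶ pullback π h // s ≫ pullback.snd π h = 𝟙 Y})) fun f g e => Subtype.ext ?_)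
  have := congrArg (fun s => s.1 ≫ pullback.fst π h) e
  simp only [pullback.lift_fst] at this
  exact this

end Groth.L28.Misc
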