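import Groth.Agent.L27.EtSite.StrictLocal
import Groth.Agent.L27.EtSite.PropB
import Groth.Agent.L27.EtSite.Push
import Groth.Prelude.Def_EtCore

/-!
Vanishing of cohomology on schemes finite over a strictly henselian local ring.
-/

set_option autoImplicit false
set_option linter.style.haveILetI false

universe u

open CategoryTheory CategoryTheory.Limits AlgebraicGeometry Opposite

set_option backward.isDefEq.respectTransparency.types false

namespace Groth.L28.Misc

variable {R : Type u} [CommRing R] [HenselianLocalRing R] [IsSepClosed (IsLocalRing.ResidueField R)]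
  {X : Scheme.{u}} (f : X ⟶ Spec (CommRingCat.of R)) [IsFinite f]

include f in
theorem surjective_sections_finite {F G : EtCoh.Ab X} (φ : F ⟶ G) [Epi φ] :
    Function.Surjective (φ.hom.app (op (EtCoh.top X))) := by
  haveI := Groth.L27.EtSite.epi_push_map f (Groth.L27.EtSite.propB_of_isIntegralHom f) φ
  intro t
  let e := EtCore.bcTopIso f
  obtain ⟨s, hs⟩ := Groth.L27.EtSite.surjective_sections R ((EtCoh.push f).map φ) (G.obj.map e.hom.op t)
  refine ⟨F.obj.map e.inv.op s, ?_⟩
  refine (NatTrans.naturality_apply φ.hom e.inv.op s).trans ?_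
  refine (congrArg (G.obj.map e.inv.op) hs).trans ?_
  rw [← ConcreteCategory.comp_apply, ← G.obj.map_comp, ← op_comp, e.inv_hom_id, op_id, G.obj.map_id,
    ConcreteCategory.id_apply]

include f in
theorem subsingleton_H_finite (F : EtCoh.Ab X) (j : ℕ) (hj : 1 ≤ j) : Subsingleton (EtCoh.H X F j) := by
  have adj := constantSheafAdj X.smallEtaleTopology AddCommGrpCat.{u + 1} (EtCore.topIsTerminal X)
  haveI : ((sheafSections X.smallEtaleTopology AddCommGrpCat.{u + 1}).obj
      (op (EtCoh.top X))).PreservesEpimorphisms :=
    ⟨fun φ _ => (AddCommGrpCat.epi_iff_surjective _).2 (surjective_sections_finite f φ)⟩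
  haveI : Projective ((constantSheaf X.smallEtaleTopology AddCommGrpCat.{u + 1}).obj
      (AddCommGrpCat.of (ULift ℤ))) :=
    adj.map_projective _ Groth.L27.EtSite.projective_of_int.{u + 1}
  obtain ⟨n, rfl⟩ := Nat.exists_eq_add_of_le hj
  rw [Nat.add_comm]
  exact subsingleton_of_forall_eq 0 fun e => Abelian.Ext.eq_zero_of_projective e

end Groth.L28.Misc
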