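import Groth.Agent.L19.SpreadLfp
import Mathlib.AlgebraicGeometry.Morphisms.Etale
import Mathlib.AlgebraicGeometry.ResidueField
import Mathlib.FieldTheory.IsAlgClosed.Basic

/-!
Étale morphisms to a scheme whose local rings are algebraically closed fields are Zariski locally trivial.
-/

set_option autoImplicit false
set_option linter.style.haveILetI false

universe u

open CategoryTheory CategoryTheory.Limits AlgebraicGeometry Opposite

namespace Groth.L28.Misc

theorem exists_local_section {X Y : Scheme.{u}} (hX : ∀ x : X, IsField (X.presheaf.stalk x))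
    (hX' : ∀ x : X, IsAlgClosed (X.residueField x)) (f : Y ⟶ X) [Etale f] (y : Y) :
    ∃ (V : X.Opens) (s : (V : Scheme.{u}) ⟶ Y), f.base y ∈ V ∧ s ≫ f = V.ι ∧ y ∈ Set.range s.base := by
  let x := f.base y
  haveI := hX' x
  letI : Algebra (X.residueField x) (Y.residueField y) := (f.residueFieldMap y).hom.toAlgebra
  haveI : Algebra.IsSeparable (X.residueField x) (Y.residueField y) := inferInstance
  haveI : IsIso (f.residueFieldMap y) :=
    (ConcreteCategory.isIso_iff_bijective _).2 (IsAlgClosed.algebraMap_bijective_of_isIntegral (k := X.residueField x))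
  haveI : IsIso (X.residue x) := by
    refine (ConcreteCategory.isIso_iff_bijective _).2 ⟨?_, IsLocalRing.residue_surjective⟩
    letI := (hX x).toField
    exact RingHom.injective (X.residue x).hom
  let φ : Spec (X.presheaf.stalk x) ⟶ Y :=
    Spec.map (inv (f.residueFieldMap y) ≫ inv (X.residue x)) ≫ Y.fromSpecResidueField y
  have h : φ ≫ f = X.fromSpecStalk x ≫ 𝟙 X := by
    rw [Category.comp_id, Category.assoc, ← Scheme.Hom.SpecMap_residueFieldMap_fromSpecResidueField,
      ← Category.assoc, ← Spec.map_comp, IsIso.hom_inv_id_assoc]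
    show Spec.map (inv (X.residue x)) ≫ Spec.map (X.residue x) ≫ X.fromSpecStalk x = _
    rw [← Category.assoc, ← Spec.map_comp, IsIso.hom_inv_id, Spec.map_id, Category.id_comp]
  obtain ⟨V, hV, s, hs, hsf⟩ := Groth.L19.SpreadLfp.spread_out' (𝟙 X) f φ h
  refine ⟨V, s, hV, by rw [hsf, Category.comp_id], V.fromSpecStalkOfMem x hV (IsLocalRing.closedPoint _), ?_⟩
  have e1 : φ (IsLocalRing.closedPoint (X.presheaf.stalk x) : Spec (X.presheaf.stalk x)) = y :=
    (Scheme.Hom.comp_apply _ _ _).trans (Scheme.fromSpecResidueField_apply _ _)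
  rw [hs] at e1
  exact e1

end Groth.L28.Misc
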